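import Cfsg.Agent.CIT.Basic
import Cfsg.Agent.FGS75.SelfNorm.Reverse
import Cfsg.Prelude.Def_KGroupFacts
import Mathlib.GroupTheory.Transfer
import Mathlib.GroupTheory.SpecificGroups.Cyclic
import Mathlib.RingTheory.ZMod.UnitsCyclic

/-!
Cyclic Sylow subgroups bound the outer part of a CIT-group.
-/

set_option autoImplicit false

namespace Cfsg.Agent.CIT38

open Subgroup CIT

variable {X : Type*} [Group X] [Finite X]

theorem inverts (hC : IsCIT X) {D : Subgroup X} (hodd : Odd (Nat.card D)) {t : X}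
    (ht : orderOf t = 2) (hn : ∀ d ∈ D, t * d * t⁻¹ ∈ D) : ∀ d ∈ D, t * d * t⁻¹ = d⁻¹ :=
  FGS75.SelfNorm.inverts_of_fpf (sq_of_orderOf ht) hn fun d hd hc =>
    hC.eq_one_of_commute (two_of_orderOf ht) (CIT.ne_one_of_orderOf ht)
      (hodd.of_dvd_nat (Subgroup.orderOf_dvd_natCard D hd)) hc.symm

theorem centralizer_odd (hC : IsCIT X) {P : Subgroup X} (hP : P ≠ ⊥) (hodd : Odd (Nat.card P)) :
    Odd (Nat.card (centralizer (P : Set X))) := by
  haveI : Fact (Nat.Prime 2) := ⟨Nat.prime_two⟩
  rw [Nat.odd_iff]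
  refine Nat.two_dvd_ne_zero.mp fun h2 => ?_
  obtain ⟨⟨t, htC⟩, ht⟩ := exists_prime_orderOf_dvd_card' 2 h2
  rw [Subgroup.orderOf_mk] at ht
  obtain ⟨v, hv, hv1⟩ := P.bot_or_exists_ne_one.resolve_left hP
  exact hv1 (hC.eq_one_of_commute (two_of_orderOf ht) (CIT.ne_one_of_orderOf ht)
    (hodd.of_dvd_nat (Subgroup.orderOf_dvd_natCard P hv)) (mem_centralizer_iff.mp htC v hv))

theorem isCyclic_mulAut {s : ℕ} [hs : Fact s.Prime] (hs2 : s ≠ 2) (P : Type*) [Group P] [Finite P]
    [IsCyclic P] (hP : IsPGroup s P) : IsCyclic (MulAut P) := by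
  obtain ⟨i, hi⟩ := IsPGroup.iff_card.mp hP
  haveI : IsCyclic (ZMod (Nat.card P))ˣ := hi ▸ ZMod.isCyclic_units_of_prime_pow s hs.out hs2 i
  exact isCyclic_of_surjective _ (IsCyclic.mulAutMulEquiv P).symm.surjective

theorem card_mulAut_dvd {s : ℕ} [hs : Fact s.Prime] (P : Type*) [Group P] [Finite P] [IsCyclic P]
    (hP : IsPGroup s P) : ∃ i, Nat.card (MulAut P) ∣ s ^ i * (s - 1) := by
  obtain ⟨i, hi⟩ := IsPGroup.iff_card.mp hP
  refine ⟨i, ?_⟩
  rw [Nat.card_congr (IsCyclic.mulAutMulEquiv P).toEquiv, hi, Nat.card_eq_fintype_card,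
    ZMod.card_units_eq_totient]
  rcases i with _ | i
  · simp
  · rw [Nat.totient_prime_pow_succ hs.out]
    exact mul_dvd_mul_right (pow_dvd_pow s (Nat.le_succ i)) _

section

variable (N : Subgroup X) [N.Normal] {s : ℕ} [hs : Fact s.Prime] (P : Sylow s N)

/-- The image of `P` in the whole group. -/
abbrev img : Subgroup X := (P : Subgroup N).map N.subtype

theorem mem_normalizer_img (n : N) :
    (n : X) ∈ normalizer (img N P : Set X) ↔ n ∈ normalizer ((P : Subgroup N) : Set N) := by
  have key : ∀ y : N, (y : X) ∈ img N P ↔ y ∈ (P : Subgroup N) :=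
    fun y => mem_map_iff_mem N.subtype_injective
  constructor
  · intro h
    refine Subgroup.mem_normalizer_iff.mpr fun y => ?_
    rw [← key, ← key]
    exact Subgroup.mem_normalizer_iff.mp h y
  · intro h
    refine Subgroup.mem_normalizer_iff.mpr fun y => ?_
    constructor
    · rintro ⟨z, hz, rfl⟩
      exact (key _).mpr ((Subgroup.mem_normalizer_iff.mp h z).mp hz)
    · intro hy
      have hyN : y ∈ N := by
        have h1 : (n : X) * y * (n : X)⁻¹ ∈ N := map_subtype_le _ hy
        rw [show y = (n : X)⁻¹ * ((n : X) * y * (n : X)⁻¹) * n by group]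
        exact mul_mem (mul_mem (inv_mem n.2) h1) n.2
      exact (key ⟨y, hyN⟩).mpr ((Subgroup.mem_normalizer_iff.mp h ⟨y, hyN⟩).mpr ((key _).mp hy))

theorem card_normalizer_inf :
    Nat.card (normalizer (img N P : Set X) ⊓ N : Subgroup X) =
      Nat.card (normalizer ((P : Subgroup N) : Set N)) := by
  have h : (normalizer (img N P : Set X) ⊓ N).subgroupOf N = normalizer ((P : Subgroup N) : Set N) := by
    ext n
    rw [mem_subgroupOf, mem_inf]
    exact ⟨fun h => (mem_normalizer_img N P n).mp h.1, fun h => ⟨(mem_normalizer_img N P n).mpr h, n.2⟩⟩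
  rw [← h, Nat.card_congr (subgroupOfEquivOfLe inf_le_right).toEquiv]

theorem card_normalizer_img :
    Nat.card (normalizer (img N P : Set X)) =
      Nat.card (normalizer (img N P : Set X) ⊓ N : Subgroup X) * N.index := by
  rw [← relIndex_bot_left, ← relIndex_mul_relIndex ⊥ _ _ bot_le
    (inf_le_left : normalizer (img N P : Set X) ⊓ N ≤ normalizer (img N P : Set X)), relIndex_bot_left,
    inf_relIndex_left, ← relIndex_sup_right (normalizer (img N P : Set X)) N,
    Sylow.normalizer_sup_eq_top P, relIndex_top_right]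

/-- An involution normalising a cyclic Sylow subgroup of `N` inverts an odd overgroup of its
centraliser. -/
theorem no_odd_automizer (hC : IsCIT X) (hs2 : s ≠ 2) [hcyc : IsCyclic (P : Subgroup N)]
    (hP : (P : Subgroup N) ≠ ⊥) {t : X} (ht : orderOf t = 2)
    (htn : t ∈ normalizer (img N P : Set X)) {w : X} (hw : w ∈ normalizer (img N P : Set X))
    (hwo : Odd (orderOf w)) : w ∈ centralizer (img N P : Set X) := by
  set P' := img N P
  haveI : IsCyclic P' := isCyclic_of_surjective _
    (equivMapOfInjective (P : Subgroup N) N.subtype N.subtype_injective).surjective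
  have hP' : IsPGroup s P' := P.isPGroup'.map _
  haveI := isCyclic_mulAut hs2 P' hP'
  set f : normalizer (P' : Set X) →* MulAut P' := normalizerMonoidHom P' with hf
  have hker : f.ker = (centralizer (P' : Set X)).subgroupOf _ := normalizerMonoidHom_ker P'
  set wb := f ⟨w, hw⟩ with hwb
  set D : Subgroup X := ((zpowers wb).comap f).map (normalizer (P' : Set X)).subtype with hD
  have hwbo : Odd (orderOf wb) := hwo.of_dvd_nat ((orderOf_map_dvd f _).trans
    (dvd_of_eq (Subgroup.orderOf_mk w hw)))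
  have hCodd : Odd (Nat.card (centralizer (P' : Set X))) := by
    refine centralizer_odd hC (fun e => hP ((map_eq_bot_iff_of_injective _ N.subtype_injective).mp e)) ?_
    obtain ⟨i, hi⟩ := IsPGroup.iff_card.mp hP'
    rw [hi]; exact (hs.out.odd_of_ne_two hs2).pow
  have hkodd : Odd (Nat.card f.ker) := by
    rw [hker]
    exact hCodd.of_dvd_nat (Subgroup.card_comap_dvd_of_injective _ _ (normalizer (P' : Set X)).subtype_injective)
  have hDodd : Odd (Nat.card D) := by
    rw [hD, card_map_of_injective (Subgroup.subtype_injective _)]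
    refine Odd.of_dvd_nat (hkodd.mul hwbo) ?_
    set Y := (zpowers wb).comap f
    rw [← card_mul_index (f.ker.subgroupOf Y),
      Nat.card_congr (subgroupOfEquivOfLe (show f.ker ≤ Y from fun x hx => by
        rw [mem_comap, MonoidHom.mem_ker.mp hx]; exact one_mem _)).toEquiv, ← Nat.card_zpowers]
    refine mul_dvd_mul_left _ ?_
    have : f.ker.subgroupOf Y = (f.subgroupComap (zpowers wb)).ker := by
      ext x
      rw [mem_subgroupOf, MonoidHom.mem_ker, MonoidHom.mem_ker, ← Subtype.coe_inj]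
      rfl
    rw [this, index_ker]
    exact card_subgroup_dvd_card _
  set tb := f ⟨t, htn⟩ with htb
  have hcomm : ∀ a b : MulAut P', a * b = b * a := fun a b =>
    (IsCyclic.commutative (α := MulAut P')).is_comm.comm a b
  have hDn : ∀ d ∈ D, t * d * t⁻¹ ∈ D := by
    rintro _ ⟨d, hd, rfl⟩
    refine ⟨⟨t, htn⟩ * d * ⟨t, htn⟩⁻¹, ?_, rfl⟩
    have h1 : f (⟨t, htn⟩ * d * ⟨t, htn⟩⁻¹) = f d := by
      rw [map_mul, map_mul, map_inv, hcomm, ← mul_assoc, inv_mul_cancel, one_mul]
    show f _ ∈ zpowers wb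
    rw [h1]
    exact hd
  have hwD : w ∈ D := ⟨⟨w, hw⟩, mem_zpowers wb, rfl⟩
  have hinv := inverts hC hDodd ht hDn w hwD
  have h1 : wb⁻¹ = wb := by
    have h2 : f (⟨t, htn⟩ * ⟨w, hw⟩ * ⟨t, htn⟩⁻¹) = f (⟨w, hw⟩⁻¹) :=
      congrArg f (Subtype.ext hinv)
    rw [map_mul, map_mul, map_inv, map_inv, hcomm (f ⟨t, htn⟩), mul_assoc, mul_inv_cancel,
      mul_one] at h2
    exact h2.symm
  have h2 : wb = 1 := by
    have h3 : wb ^ 2 = 1 := by
      rw [pow_two]; nth_rw 1 [← h1]; exact inv_mul_cancel wb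
    exact orderOf_eq_one_iff.mp (Nat.Coprime.eq_one_of_dvd
      (Nat.coprime_two_right.mpr hwbo) (orderOf_dvd_of_pow_eq_one h3))
  have : (⟨w, hw⟩ : normalizer (P' : Set X)) ∈ f.ker := h2
  rw [hker] at this
  exact this

/-- If the normaliser in `N` of a cyclic Sylow subgroup has even order, the index of `N` is a
power of two, bounded through `s - 1`. -/
theorem index_dvd (hC : IsCIT X) (hs2 : s ≠ 2) [hcyc : IsCyclic (P : Subgroup N)]
    (hP : (P : Subgroup N) ≠ ⊥) (heven : 2 ∣ Nat.card (normalizer ((P : Subgroup N) : Set N))) :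
    (∃ a, N.index = 2 ^ a) ∧ N.index * 2 ∣ s - 1 := by
  haveI : Fact (Nat.Prime 2) := ⟨Nat.prime_two⟩
  set P' := img N P
  haveI : IsCyclic P' := isCyclic_of_surjective _
    (equivMapOfInjective (P : Subgroup N) N.subtype N.subtype_injective).surjective
  have hP' : IsPGroup s P' := P.isPGroup'.map _
  have hP'odd : Odd (Nat.card P') := by
    obtain ⟨i, hi⟩ := IsPGroup.iff_card.mp hP'
    rw [hi]; exact (hs.out.odd_of_ne_two hs2).pow
  have hCodd := centralizer_odd hC
    (fun e => hP ((map_eq_bot_iff_of_injective _ N.subtype_injective).mp e)) hP'odd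
  obtain ⟨⟨t₀, ht₀n⟩, ht₀⟩ := exists_prime_orderOf_dvd_card' 2 heven
  rw [Subgroup.orderOf_mk, ← Subgroup.orderOf_coe] at ht₀
  have htn := (mem_normalizer_img N P t₀).mpr ht₀n
  have hCle : centralizer (P' : Set X) ≤ normalizer (P' : Set X) ⊓ N := by
    intro c hc
    refine ⟨centralizer_le_normalizer _ hc, ?_⟩
    have hinv : (t₀ : X) * c * (t₀ : X)⁻¹ = c⁻¹ := by
      refine inverts hC hCodd ht₀ (fun d hd => mem_centralizer_iff.mpr fun y hy => ?_) c hc
      have h2 := (Subgroup.mem_normalizer_iff.mp (inv_mem htn) y).mp hy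
      rw [inv_inv] at h2
      have h3 := mem_centralizer_iff.mp hd _ h2
      calc y * ((t₀ : X) * d * (t₀ : X)⁻¹)
          = (t₀ : X) * (((t₀ : X)⁻¹ * y * t₀) * d) * (t₀ : X)⁻¹ := by group
        _ = (t₀ : X) * d * (t₀ : X)⁻¹ * y := by rw [h3]; group
    have h2 : c ^ 2 ∈ N := by
      rw [show c ^ 2 = ((t₀ : X) * c * (t₀ : X)⁻¹)⁻¹ * c by rw [hinv, inv_inv, pow_two],
        show ((t₀ : X) * c * (t₀ : X)⁻¹)⁻¹ * c = (t₀ : X) * (c⁻¹ * (t₀ : X)⁻¹ * c) by group]
      refine mul_mem t₀.2 ?_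
      simpa using (inferInstance : N.Normal).conj_mem _ (inv_mem t₀.2) c⁻¹
    obtain ⟨k, hk⟩ := hCodd.of_dvd_nat (Subgroup.orderOf_dvd_natCard _ hc)
    rw [show c = (c ^ 2) ^ (k + 1) by
      rw [← pow_mul, show 2 * (k + 1) = (2 * k + 1) + 1 by ring, ← hk, pow_succ, pow_orderOf_eq_one,
        one_mul]]
    exact pow_mem h2 _
  set f : normalizer (P' : Set X) →* MulAut P' := normalizerMonoidHom P' with hf
  have hker : f.ker = (centralizer (P' : Set X)).subgroupOf _ := normalizerMonoidHom_ker P'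
  obtain ⟨k, hk⟩ : ∃ k, Nat.card f.range = 2 ^ k := by
    refine IsPGroup.iff_card.mp fun ⟨wb, hwb⟩ => ?_
    obtain ⟨⟨w, hw⟩, rfl⟩ := hwb
    refine ⟨(orderOf w).factorization 2, Subtype.ext ?_⟩
    show f ⟨w, hw⟩ ^ _ = 1
    rw [← map_pow]
    set m := 2 ^ (orderOf w).factorization 2
    have hmem : (⟨w, hw⟩ : normalizer (P' : Set X)) ^ m ∈ f.ker := by
      rw [hker]
      refine no_odd_automizer N P hC hs2 hP ht₀ htn (pow_mem hw _) ?_
      rw [Subgroup.subtype_apply, Subgroup.orderOf_coe, orderOf_pow, Subgroup.orderOf_mk, Nat.gcd_eq_right (Nat.ordProj_dvd _ _)]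
      exact Nat.odd_iff.mpr (Nat.two_dvd_ne_zero.mp
        (Nat.not_dvd_ordCompl Nat.prime_two (orderOf_pos w).ne'))
    exact hmem
  have h1 : Nat.card f.range = (centralizer (P' : Set X)).relIndex (normalizer (P' : Set X) ⊓ N) *
      N.index := by
    rw [← index_ker, hker]
    show (centralizer (P' : Set X)).relIndex (normalizer (P' : Set X)) = _
    have h2 := relIndex_mul_relIndex _ _ _ hCle
      (inf_le_left : normalizer (P' : Set X) ⊓ N ≤ normalizer (P' : Set X))
    rw [inf_relIndex_left, ← relIndex_sup_right (normalizer (P' : Set X)) N,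
      Sylow.normalizer_sup_eq_top P, relIndex_top_right] at h2
    exact h2.symm
  have h2 : 2 ∣ (centralizer (P' : Set X)).relIndex (normalizer (P' : Set X) ⊓ N) := by
    have h3 : Nat.card (centralizer (P' : Set X)) *
        (centralizer (P' : Set X)).relIndex (normalizer (P' : Set X) ⊓ N) =
        Nat.card (normalizer ((P : Subgroup N) : Set N)) := by
      rw [← card_normalizer_inf N P, ← relIndex_bot_left, relIndex_mul_relIndex ⊥ _ _ bot_le hCle,
        relIndex_bot_left]
    exact ((Nat.coprime_two_left.mpr hCodd).dvd_of_dvd_mul_left (h3 ▸ heven))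
  have h4 : N.index * 2 ∣ 2 ^ k := hk ▸ h1 ▸ mul_comm N.index 2 ▸ mul_dvd_mul_right h2 _
  refine ⟨?_, ?_⟩
  · obtain ⟨a, -, ha⟩ := (Nat.dvd_prime_pow Nat.prime_two).mp ((dvd_mul_right _ 2).trans h4)
    exact ⟨a, ha⟩
  · obtain ⟨i, hi⟩ := card_mulAut_dvd P' hP'
    refine (Nat.Coprime.dvd_of_dvd_mul_left ?_ ((hk ▸ h4).trans ((card_subgroup_dvd_card f.range).trans hi)))
    obtain ⟨a, -, ha⟩ := (Nat.dvd_prime_pow Nat.prime_two).mp h4
    rw [ha]
    exact Nat.Coprime.pow _ _ ((Nat.coprime_primes Nat.prime_two hs.out).mpr (Ne.symm hs2))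

/-- Burnside: the normaliser of a cyclic Sylow subgroup of a simple group is not abelian on it. -/
theorem normalizer_ne_centralizer [IsSimpleGroup N] (hN : ¬ IsMulCommutative N)
    [hcyc : IsCyclic (P : Subgroup N)] (hP : (P : Subgroup N) ≠ ⊥) :
    ¬ normalizer ((P : Subgroup N) : Set N) ≤ centralizer ((P : Subgroup N) : Set N) := by
  intro hle
  have hc := MonoidHom.ker_transferSylow_isComplement' P hle
  rcases (MonoidHom.normal_ker (MonoidHom.transferSylow P hle)).eq_bot_or_eq_top with h | h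
  · rw [h, isComplement'_bot_left] at hc
    haveI : IsCyclic (⊤ : Subgroup N) := hc ▸ hcyc
    haveI : IsCyclic N := isCyclic_of_surjective _ (Subgroup.topEquiv (G := N)).surjective
    exact hN IsCyclic.commutative
  · rw [h, isComplement'_top_left] at hc
    exact hP hc

theorem even_normalizer [IsSimpleGroup N] (hN : ¬ IsMulCommutative N) {a : ℕ} (hs1 : s - 1 = 2 ^ a)
    [hcyc : IsCyclic (P : Subgroup N)] (hP : (P : Subgroup N) ≠ ⊥) :
    2 ∣ Nat.card (normalizer ((P : Subgroup N) : Set N)) := by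
  set f : normalizer ((P : Subgroup N) : Set N) →* MulAut (P : Subgroup N) := normalizerMonoidHom _
  have hne : f.ker ≠ ⊤ := by
    rw [normalizerMonoidHom_ker, Ne, subgroupOf_eq_top]
    exact normalizer_ne_centralizer N P hN hP
  have hr : Nat.card f.range ≠ 1 := fun h => hne (index_eq_one.mp (index_ker f ▸ h))
  obtain ⟨i, hi⟩ := card_mulAut_dvd (P : Subgroup N) P.isPGroup'
  have hd : Nat.card f.range ∣ s ^ i * 2 ^ a := hs1 ▸ (card_subgroup_dvd_card f.range).trans hi
  have hsr : ¬ s ∣ Nat.card f.range := by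
    rw [← index_ker, normalizerMonoidHom_ker]
    intro h
    refine P.not_dvd_index ?_
    have hPC : (P : Subgroup N) ≤ centralizer ((P : Subgroup N) : Set N) := fun x hx =>
      mem_centralizer_iff.mpr fun y hy => congrArg Subtype.val
        ((IsCyclic.commutative (α := (P : Subgroup N))).is_comm.comm ⟨y, hy⟩ ⟨x, hx⟩)
    exact h.trans ((dvd_trans (relIndex_dvd_of_le_left _ hPC) (Dvd.intro _
      (relIndex_mul_index (le_normalizer (H := (P : Subgroup N)))))))
  have h2 : Nat.card f.range ∣ 2 ^ a :=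
    (Nat.Coprime.pow_right i (hs.out.coprime_iff_not_dvd.mpr hsr).symm).dvd_of_dvd_mul_left hd
  obtain ⟨b, -, hb⟩ := (Nat.dvd_prime_pow Nat.prime_two).mp h2
  rcases Nat.eq_zero_or_pos b with rfl | hb0
  · exact absurd (by simpa using hb) hr
  · exact ((dvd_pow_self 2 hb0.ne').trans (dvd_of_eq hb.symm)).trans
      ((dvd_of_eq (index_ker f).symm).trans f.ker.index_dvd_card)

/-- Index two is impossible when the normaliser in `N` has odd order. -/
theorem index_ne_two (hC : IsCIT X) (hs2 : s ≠ 2) [IsSimpleGroup N] (hN : ¬ IsMulCommutative N)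
    [hcyc : IsCyclic (P : Subgroup N)] (hP : (P : Subgroup N) ≠ ⊥)
    (hodd : Odd (Nat.card (normalizer ((P : Subgroup N) : Set N)))) : N.index ≠ 2 := by
  intro h2
  haveI : Fact (Nat.Prime 2) := ⟨Nat.prime_two⟩
  obtain ⟨⟨x, hxn⟩, hx⟩ := exists_prime_orderOf_dvd_card' 2
    (show 2 ∣ Nat.card (normalizer (img N P : Set X)) by
      rw [card_normalizer_img N P, h2]; exact dvd_mul_left 2 _)
  rw [Subgroup.orderOf_mk] at hx
  refine normalizer_ne_centralizer N P hN hP fun w hw => ?_
  have h := no_odd_automizer N P hC hs2 hP hx hxn ((mem_normalizer_img N P w).mpr hw)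
    (by rw [Subgroup.orderOf_coe]; exact hodd.of_dvd_nat (Subgroup.orderOf_dvd_natCard _ hw))
  exact mem_centralizer_iff.mpr fun y hy =>
    Subtype.ext (mem_centralizer_iff.mp h (y : X) (mem_map_of_mem N.subtype hy))

end

/-- A cyclic Sylow subgroup from an element carrying the whole `s`-part of the order. -/
theorem cyclic_sylow {H : Type*} [Group H] [Finite H] {s : ℕ} [hs : Fact s.Prime] {g : H}
    (hg : ¬ s ∣ Nat.card H / orderOf g) (P : Sylow s H) : IsCyclic (P : Subgroup H) := by
  obtain ⟨Q⟩ : Nonempty (Sylow s (zpowers g)) := inferInstance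
  set Q' := (Q : Subgroup (zpowers g)).map (zpowers g).subtype
  have hQi : ¬ s ∣ Q'.index := by
    rw [← relIndex_mul_index (show Q' ≤ zpowers g from map_subtype_le _)]
    intro h
    rcases hs.out.dvd_mul.mp h with h | h
    · refine Q.not_dvd_index ?_
      have e : Q'.relIndex (zpowers g) = (Q : Subgroup (zpowers g)).index := by
        rw [relIndex, subgroupOf, comap_map_eq_self_of_injective (zpowers g).subtype_injective]
      rwa [e] at h
    · refine hg ?_
      rwa [← Nat.card_zpowers, ← (zpowers g).card_mul_index, Nat.mul_div_cancel_left _ Nat.card_pos]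
  set R : Sylow s H := (Q.isPGroup'.map _).toSylow hQi
  haveI : IsCyclic (R : Subgroup H) := isCyclic_of_surjective _
    (equivMapOfInjective (Q : Subgroup (zpowers g)) _ (zpowers g).subtype_injective).surjective
  exact isCyclic_of_surjective _ (R.equiv P).surjective

/-- The index of a normal subgroup with trivial centraliser divides the order of the group of outer
automorphisms. -/
theorem index_dvd_out (N : Subgroup X) [N.Normal] (hcent : centralizer (N : Set X) = ⊥) :
    N.index ∣ Nat.card (Cfsg.Out ↥N) := by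
  set f : X →* Cfsg.Out ↥N := (QuotientGroup.mk' (Cfsg.Inn ↥N)).comp (MulAut.conjNormal (H := N))
  have hker : f.ker ≤ N := by
    intro x hx
    obtain ⟨n, hn⟩ := (QuotientGroup.eq_one_iff _).mp (show QuotientGroup.mk' (Cfsg.Inn ↥N) _ = 1 from hx)
    have h1 : (n : X)⁻¹ * x ∈ centralizer (N : Set X) := by
      refine mem_centralizer_iff.mpr fun y hy => ?_
      have h2 := congrArg (fun φ : MulAut N => ((φ ⟨y, hy⟩ : N) : X)) hn
      simp only [MulAut.conjNormal_apply] at h2
      calc y * ((n : X)⁻¹ * x) = (n : X)⁻¹ * ((n : X) * y * (n : X)⁻¹) * x := by group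
        _ = (n : X)⁻¹ * (x * y * x⁻¹) * x := by
          rw [show (n : X) * y * (n : X)⁻¹ = x * y * x⁻¹ from h2]
        _ = (n : X)⁻¹ * x * y := by group
    rw [hcent, mem_bot, inv_mul_eq_one] at h1
    exact h1 ▸ n.2
  refine (index_dvd_of_le hker).trans ?_
  rw [index_ker]
  exact card_subgroup_dvd_card _

end Cfsg.Agent.CIT38
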