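import Cfsg.Agent.CIT.Witness
import Cfsg.Agent.CIT.Res

/-!
The CIT-groups without TI Sylow 2-subgroups act on no elementary 2-group without fixed points.
-/

set_option autoImplicit false

namespace Cfsg.Agent.CIT38

open CIT Matrix

variable {X V : Type*} [Group X] [Group V] [Finite X] [Finite V] [Nontrivial V]
  {φ : X →* MulAut V}

/-- A dihedral group of order 16 meeting an alternating group of degree four in a four-group. -/
theorem no_four_eight (h : Act φ) {t a w c : X} (ht : t * t = 1) (ht1 : t ≠ 1) (ha : a * a = 1)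
    (hta : t * a = a * t) (hw : w ^ 3 = 1) (hw1 : w ≠ 1) (hwt : w * t = t * a * w)
    (hwa : w * a = t * w) (hc : c ^ 4 = t) (hca : a * c * a⁻¹ = c⁻¹)
    (hno : ∀ N : Subgroup X, N.Normal → IsPGroup 2 N → N = ⊥) : False := by
  letI : CommGroup V := { (inferInstance : Group V) with mul_comm := h.comm }
  let E : X →* AddMonoid.End (Additive V) :=
    { toFun := fun x => MonoidHom.toAdditive (φ x).toMonoidHom
      map_one' := AddMonoidHom.ext fun v => by
        show Additive.ofMul (φ 1 v.toMul) = v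
        rw [map_one]; rfl
      map_mul' := fun x y => AddMonoidHom.ext fun v => by
        show Additive.ofMul (φ (x * y) v.toMul) = Additive.ofMul (φ x (φ y v.toMul))
        rw [map_mul]; rfl }
  have hmul : ∀ x y v, E (x * y) v = E x (E y v) := fun x y v => by rw [map_mul]; rfl
  have hone : ∀ v, E 1 v = v := fun v => by rw [map_one]; rfl
  have h2 : ∀ v : Additive V, v + v = 0 := fun v => congrArg Additive.ofMul (h.exp v.toMul)
  have hfix : ∀ x : X, x ^ 3 = 1 → x ≠ 1 → ∀ v, v + E x v + E (x * x) v = 0 := by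
    intro x hx hx1 v
    set y := v + E x v + E (x * x) v with hy
    have h1 : E x y = y := by
      rw [hy, map_add, map_add, ← hmul, ← hmul, show x * (x * x) = 1 by rw [← hx]; simp [pow_succ, mul_assoc],
        hone]
      abel
    have ho : Odd (orderOf x) := Odd.of_dvd_nat (by decide) (orderOf_dvd_of_pow_eq_one hx)
    exact congrArg Additive.ofMul (h.fpf x ho hx1 y.toMul (congrArg Additive.toMul h1))
  have haa : t * a * (t * a) = 1 := by
    calc t * a * (t * a) = t * (a * t) * a := by group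
      _ = (t * t) * (a * a) := by rw [← hta]; group
      _ = 1 := by rw [ht, ha, one_mul]
  have hsq : ∀ {e e' : X}, w * e = e' * w → e * w * (e * w) = e * e' * (w * w) := by
    intro e e' he
    calc e * w * (e * w) = e * (w * e) * w := by group
      _ = e * e' * (w * w) := by rw [he]; group
  have hord : ∀ {e e' e'' : X}, e * e = 1 → w * e = e' * w → w * e' = e'' * w → e * e' * e'' = 1 →
      (e * w) ^ 3 = 1 ∧ e * w ≠ 1 := by
    intro e e' e'' he h1 h1' h3
    refine ⟨?_, fun e0 => hw1 ?_⟩
    · rw [pow_succ, pow_two, hsq h1]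
      calc e * e' * (w * w) * (e * w) = e * e' * (w * (w * e)) * w := by group
        _ = e * e' * ((w * e') * w) * w := by rw [h1]; group
        _ = e * e' * e'' * w ^ 3 := by rw [h1', pow_succ, pow_two]; group
        _ = 1 := by rw [h3, hw, one_mul]
    · have hwe : w = e := by
        rw [eq_inv_of_mul_eq_one_right e0, inv_eq_of_mul_eq_one_right he]
      have h4 : w ^ 3 = w := by rw [pow_succ, pow_two, hwe, he, one_mul]
      exact h4.symm.trans hw
  have hwta : w * (t * a) = a * w := by
    calc w * (t * a) = (w * t) * a := by group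
      _ = t * a * (w * a) := by rw [hwt]; group
      _ = (t * a) * t * w := by rw [hwa]; group
      _ = a * w := by rw [hta, mul_assoc a t t, ht, mul_one]
  obtain ⟨o1, n1⟩ := hord ht hwt hwta (by
    rw [← mul_assoc t t a, ht, one_mul, ha])
  obtain ⟨o2, n2⟩ := hord ha hwa hwt (by
    rw [← mul_assoc (a * t) t a, mul_assoc a t t, ht, mul_one, ha])
  obtain ⟨o3, n3⟩ := hord haa hwta hwa (by
    rw [mul_assoc t a a, ha, mul_one, ht])
  -- the norm of the four-group vanishes
  have hN : ∀ v, v + E t v + E a v + E (t * a) v = 0 := by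
    intro v
    have e0 := hfix w hw hw1 v
    have e1 := hfix _ o1 n1 v
    have e2 := hfix _ o2 n2 v
    have e3 := hfix _ o3 n3 v
    rw [hsq hwt, ← mul_assoc t t a, ht, one_mul] at e1
    rw [hsq hwa, ← hta] at e2
    rw [hsq hwta, mul_assoc t a a, ha, mul_one] at e3
    simp only [hmul] at e0 e1 e2 e3 ⊢
    have hv : E w v + E w (E w v) = v := by
      have := eq_neg_of_add_eq_zero_right (a := v) (b := E w v + E w (E w v)) (by rw [← add_assoc]; exact e0)
      rw [this, neg_eq_of_add_eq_zero_left (h2 v)]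
    have he : ∀ x, E x v = E x (E w v) + E x (E w (E w v)) := fun x => by
      rw [← map_add, hv]
    have e4 := he (t * a)
    rw [hmul, hmul, hmul] at e4
    rw [e4, he t, he a]
    calc _ = v + ((v + E t (E w v) + E a (E w (E w v)))
          + (v + E a (E w v) + E t (E a (E w (E w v))))
          + (v + E t (E a (E w v)) + E t (E w (E w v)))) - (v + v + v) := by abel
      _ = 0 := by
        rw [e1, e2, e3, add_zero, add_zero, add_zero, h2, zero_add, sub_self]
  have hct : c * t = t * c := by rw [← hc]; exact (Commute.pow_self c 4).eq.symm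
  have hac : a * c = c⁻¹ * a := by rw [← hca]; group
  -- the square of `c` centralises the fixed points of `t`
  have hy : ∀ u, E t u = u → E (c * c) u = u := by
    have hta' : ∀ u, E t u = u → E a u = u := by
      intro u hu
      obtain ⟨v, hv⟩ := (h.half_of_no_normal hno (orderOf_of_sq ht ht1)).2 u.toMul
        (congrArg Additive.toMul hu)
      have hv' : Additive.ofMul v + E t (Additive.ofMul v) = u := congrArg Additive.ofMul hv
      have := hN (Additive.ofMul v)
      rw [hmul] at this
      rw [← hv', map_add, ← hmul a t, ← hta, hmul, ← sub_eq_zero]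
      calc _ = (Additive.ofMul v + E t (Additive.ofMul v) + E a (Additive.ofMul v) +
            E t (E a (Additive.ofMul v))) - ((Additive.ofMul v + Additive.ofMul v) +
            (E t (Additive.ofMul v) + E t (Additive.ofMul v))) := by abel
        _ = 0 := by rw [this, h2, h2]; simp
    intro u hu
    have h3 := hta' (E c u) (by rw [← hmul, ← hct, hmul, hu])
    rw [← hmul, hac, hmul, hta' u hu] at h3
    conv_rhs => rw [← hone u, ← mul_inv_cancel c, hmul, h3, ← hmul]
  obtain ⟨v, hv⟩ : ∃ v, E t v ≠ v := by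
    by_contra hcon
    push Not at hcon
    exact ht1 (h.inj (by
      rw [map_one]
      exact MulEquiv.ext fun v => congrArg Additive.toMul (hcon (Additive.ofMul v))))
  refine hv ?_
  have e1 := hy (v + E t v) (by rw [map_add, ← hmul, ht, hone]; abel)
  have e2 := hy (v + E (c * c) v) (by
    have hcc : t * (c * c) = c * c * t := by rw [← mul_assoc, ← hct, mul_assoc, ← hct, mul_assoc]
    rw [map_add, ← hmul, hcc, hmul, ← sub_eq_zero]
    rw [map_add] at e1
    calc _ = (E (c * c) v + E (c * c) (E t v)) + (v + E t v) -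
        ((v + v) + (E (c * c) v + E (c * c) v)) := by abel
      _ = 0 := by rw [e1, h2, h2, h2]; simp)
  have hc4 : E (c * c) (E (c * c) v) = E t v := by
    rw [← hmul, ← hc]; congr 2; simp [pow_succ, mul_assoc]
  rw [map_add, hc4, add_comm v] at e2
  exact add_left_cancel e2

variable {F : Type} [Field F] [Fintype F]

/-- No action when `PSL₂` over a Fermat prime at least seventeen embeds. -/
theorem no_psl_two_fermat (h : Act φ) (hF : (Fintype.card F).Prime) (h7 : 7 ≤ Fintype.card F)
    {k : ℕ} (hk : Fintype.card F = 2 ^ k + 1)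
    (hno : ∀ N : Subgroup X, N.Normal → IsPGroup 2 N → N = ⊥)
    (f : Matrix.ProjectiveSpecialLinearGroup (Fin 2) F →* X) (hf : Function.Injective f) :
    False := by
  classical
  obtain ⟨j, rfl⟩ : ∃ j, k = j + 4 := ⟨k - 4, by
    have h3 : ¬ k ≤ 3 := by
      intro hle
      rcases (show k = 0 ∨ k = 1 ∨ k = 2 ∨ k = 3 by omega) with rfl | rfl | rfl | rfl
      · omega
      · omega
      · omega
      · rw [hk] at hF; norm_num at hF
    omega⟩
  obtain ⟨g, hg⟩ := IsCyclic.exists_generator (α := Fˣ)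
  have hgo : orderOf g = 2 ^ (j + 4) := by
    rw [orderOf_eq_card_of_forall_mem_zpowers hg, Nat.card_eq_fintype_card, Fintype.card_units, hk,
      Nat.add_sub_cancel]
  set z := g ^ 2 ^ j with hz
  have hzo : orderOf z = 16 := by
    rw [hz, orderOf_pow' g (by positivity), hgo, Nat.gcd_eq_right (pow_dvd_pow 2 (Nat.le_add_right j 4)),
      pow_add, Nat.mul_div_cancel_left _ (by positivity)]
    norm_num
  set i : F := (z : F) ^ 4 with hi
  have hi4 : i ^ 4 = 1 := by
    rw [hi, ← pow_mul, ← Units.val_pow_eq_pow_val, show 4 * 4 = orderOf z from hzo.symm,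
      pow_orderOf_eq_one, Units.val_one]
  have hi2 : i * i = -1 := by
    have h1 : i * i ≠ 1 := fun e => by
      have h2 : z ^ 8 = 1 := Units.ext (by
        rw [Units.val_pow_eq_pow_val, Units.val_one, ← e, hi, ← pow_add])
      have := Nat.le_of_dvd (by norm_num) (orderOf_dvd_of_pow_eq_one h2)
      omega
    have h2 : (i * i - 1) * (i * i + 1) = 0 := by linear_combination hi4
    exact eq_neg_of_add_eq_zero_left ((mul_eq_zero.mp h2).resolve_left (sub_ne_zero.mpr h1))
  have h20 : (2 : F) ≠ 0 := by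
    intro e
    haveI : CharP F 2 := CharTwo.of_one_ne_zero_of_two_eq_zero one_ne_zero e
    obtain ⟨⟨n, hn⟩, -, hc⟩ := FiniteField.card F 2
    rw [hk] at hc
    have h1 : 2 ∣ 2 ^ (j + 4) + 1 := hc ▸ dvd_pow_self 2 hn.ne'
    rw [Nat.dvd_add_right (dvd_pow_self 2 (by omega))] at h1
    norm_num at h1
  let T : Matrix.SpecialLinearGroup (Fin 2) F :=
    ⟨!![i, 0; 0, -i], by simp [Matrix.det_fin_two_of]; linear_combination -hi2⟩
  let A : Matrix.SpecialLinearGroup (Fin 2) F :=
    ⟨!![0, 1; -1, 0], by simp [Matrix.det_fin_two_of]⟩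
  let W : Matrix.SpecialLinearGroup (Fin 2) F :=
    ⟨!![(-1 + i) / 2, (1 + i) / 2; (-1 + i) / 2, (-1 - i) / 2], by
      simp [Matrix.det_fin_two_of]; field_simp; linear_combination (-2) * hi2⟩
  let N : Matrix.SpecialLinearGroup (Fin 2) F := ⟨!![-1, 0; 0, -1], by simp [Matrix.det_fin_two_of]⟩
  have hN1 : pr N = 1 := (QuotientGroup.eq_one_iff N).mpr
    (Matrix.SpecialLinearGroup.mem_center_iff.mpr ⟨-1, by simp, by
      ext r s; fin_cases r <;> fin_cases s <;> simp [N]⟩)
  have hC4 : dMat z ^ 4 = T := by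
    rw [dMat_pow]
    refine Subtype.ext ?_
    show !![((z ^ 4 : Fˣ) : F), 0; 0, ((z ^ 4)⁻¹ : Fˣ)] = !![i, 0; 0, -i]
    rw [Units.val_inv_eq_inv_val, Units.val_pow_eq_pow_val, ← hi,
      inv_eq_of_mul_eq_one_right (show i * -i = 1 by linear_combination -hi2)]
  have eT : T * T = N := Subtype.ext (by
    show !![i, 0; 0, -i] * !![i, 0; 0, -i] = !![(-1 : F), 0; 0, -1]
    simp [Matrix.mul_fin_two, hi2])
  have eA : A * A = N := Subtype.ext (by
    show !![(0 : F), 1; -1, 0] * !![(0 : F), 1; -1, 0] = !![(-1 : F), 0; 0, -1]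
    simp [Matrix.mul_fin_two])
  have eTA : T * A = N * (A * T) := Subtype.ext (by
    show !![i, 0; 0, -i] * !![(0 : F), 1; -1, 0] = !![(-1 : F), 0; 0, -1] * (!![(0 : F), 1; -1, 0] * !![i, 0; 0, -i])
    simp [Matrix.mul_fin_two])
  have eW : W * W * W = 1 := Subtype.ext (by
    show !![(-1 + i) / 2, (1 + i) / 2; (-1 + i) / 2, (-1 - i) / 2] * !![(-1 + i) / 2, (1 + i) / 2; (-1 + i) / 2, (-1 - i) / 2] * !![(-1 + i) / 2, (1 + i) / 2; (-1 + i) / 2, (-1 - i) / 2] = 1
    ext r s; fin_cases r <;> fin_cases s <;>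
      simp [Matrix.mul_apply, Fin.sum_univ_two] <;> field_simp <;> grind)
  have eWT : W * T = T * A * W := Subtype.ext (by
    show !![(-1 + i) / 2, (1 + i) / 2; (-1 + i) / 2, (-1 - i) / 2] * !![i, 0; 0, -i] = !![i, 0; 0, -i] * !![(0 : F), 1; -1, 0] * !![(-1 + i) / 2, (1 + i) / 2; (-1 + i) / 2, (-1 - i) / 2]
    ext r s; fin_cases r <;> fin_cases s <;>
      simp [Matrix.mul_apply, Fin.sum_univ_two] <;> field_simp <;> grind)
  have eWA : W * A = T * W := Subtype.ext (by
    show !![(-1 + i) / 2, (1 + i) / 2; (-1 + i) / 2, (-1 - i) / 2] * !![(0 : F), 1; -1, 0] = !![i, 0; 0, -i] * !![(-1 + i) / 2, (1 + i) / 2; (-1 + i) / 2, (-1 - i) / 2]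
    ext r s; fin_cases r <;> fin_cases s <;>
      simp [Matrix.mul_apply, Fin.sum_univ_two] <;> field_simp <;> grind)
  have eCA : A * dMat z = dMat z⁻¹ * A := Subtype.ext (by
    show !![(0 : F), 1; -1, 0] * !![(z : F), 0; 0, (↑z⁻¹ : F)] = !![(↑z⁻¹ : F), 0; 0, (↑(z⁻¹)⁻¹ : F)] * !![(0 : F), 1; -1, 0]
    simp [Matrix.mul_fin_two])
  have hp : ∀ M M', M = M' → f (pr M) = f (pr M') := fun M M' e => by rw [e]
  have pm : ∀ M M', f (pr (M * M')) = f (pr M) * f (pr M') := fun M M' => map_mul f (pr M) (pr M')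
  have fN : f (pr N) = 1 := by rw [hN1, map_one]
  refine no_four_eight h (t := f (pr T)) (a := f (pr A)) (w := f (pr W)) (c := f (pr (dMat z)))
    ?_ (fun e => ?_) ?_ ?_ ?_ (fun e => ?_) ?_ ?_ ?_ ?_ hno
  · rw [← pm, eT, fN]
  · rw [map_eq_one_iff f hf] at e
    obtain ⟨r, hr⟩ := pr_eq_one e
    have h0 := congrFun (congrFun hr 0) 0
    have h1 := congrFun (congrFun hr 1) 1
    simp [T] at h0 h1
    have h3 : i * 2 = 0 := by linear_combination h1 - h0
    rcases mul_eq_zero.mp h3 with h4 | h4
    · rw [h4] at hi2; simp at hi2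
    · exact h20 h4
  · rw [← pm, eA, fN]
  · rw [← pm, eTA, pm, fN, one_mul, pm]
  · rw [pow_succ, pow_two, ← pm, ← pm, eW]
    exact map_one f
  · rw [map_eq_one_iff f hf] at e
    obtain ⟨r, hr⟩ := pr_eq_one e
    have h0 := congrFun (congrFun hr 1) 0
    simp [W] at h0
    replace h0 := div_eq_zero_iff.mp h0.symm
    rcases h0 with h0 | h0
    · have h1 : i = 1 := by linear_combination h0
      rw [h1, one_mul] at hi2
      exact h20 (by linear_combination hi2)
    · exact h20 h0
  · rw [← pm, ← pm, ← pm, eWT]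
  · rw [← pm, ← pm, eWA]
  · rw [← map_pow, ← QuotientGroup.mk_pow, hC4]
  · rw [mul_inv_eq_iff_eq_mul, ← pm, eCA, pm, ← map_inv, ← QuotientGroup.mk_inv]
    congr 3
    exact (inv_eq_of_mul_eq_one_right (by rw [dMat_mul, mul_inv_cancel, dMat_one])).symm

/-- None of the simple CIT-groups without TI Sylow 2-subgroups acts. -/
theorem false_of_nonTI {T : Type*} [Group T] (h : Act φ)
    (hno : ∀ N : Subgroup X, N.Normal → IsPGroup 2 N → N = ⊥) (hT : NonTI T) (g : T →* X)
    (hg : Function.Injective g) : False := by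
  rcases hT with ⟨K, _, _, hK, ⟨e⟩⟩ | ⟨K, _, _, hK, ⟨e⟩⟩
  · have hi : Function.Injective (g.comp e.symm.toMonoidHom) := hg.comp e.symm.injective
    rcases hK with h9 | ⟨hp, h7, k, hk | hk⟩
    · exact h.no_psl_two_nine h9 _ hi
    · exact no_psl_two_fermat h hp h7 hk hno _ hi
    · exact h.no_psl_two_mersenne hp h7 hk _ hi
  · exact h.no_psl_three_four hK (g.comp e.symm.toMonoidHom) (hg.comp e.symm.injective)

end Cfsg.Agent.CIT38
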