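import Cfsg.Agent.CIT38.Modules
import Cfsg.Agent.CIT38.Auto
import Cfsg.Agent.Lib.MinimalNormal
import Cfsg.Agent.S0205
import Mathlib.Tactic.NoncommRing

/-!
Higman's argument: elements of order three without fixed points on a 2-group.
-/

set_option autoImplicit false

namespace Cfsg.Agent.CIT38

open Subgroup CIT

variable {X : Type*} [Group X]

/-- Two fixed-point-free elements of order three commute on the image of an equivariant pairing. -/
theorem commute_on_image {V Z : Type*} [AddCommGroup V] [AddCommGroup Z]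
    {ρ : X →* AddMonoid.End V} {σ : X →* AddMonoid.End Z} (hV : IsFpf ρ) (hZ : IsFpf σ)
    (hV2 : Exp2 V) (hZ2 : Exp2 Z) {b : V →+ V →+ Z} (hb : IsEquiv2 ρ ρ σ b) {p q : X}
    (hp : p ^ 3 = 1) (hp1 : p ≠ 1) (hq : q ^ 3 = 1) (hq1 : q ≠ 1) (v u : V) :
    σ p (σ q (b v u)) = σ q (σ p (b v u)) := by
  have key : ∀ {w : X}, w ^ 3 = 1 → w ≠ 1 → ∀ v u : V,
      σ w (b v u) = b v (ρ w (ρ w u)) ∧ σ w (b v u) = b (ρ w (ρ w v)) u := by
    intro w hw hw1 v u
    have hsum : ∀ x : V, ρ w (ρ w x) = x + ρ w x := fun x => by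
      have := hV.three hw hw1 x
      exact (hV2.eq_of_add (a := x + ρ w x) this).symm
    have hself : ∀ x y : V, b x (ρ w y) = b (ρ w x) y := by
      intro x y
      refine hZ2.eq_of_add ?_
      set a := b x (ρ w y) + b (ρ w x) y with ha
      have h1 : σ w a = a := by
        rw [ha, map_add, ← hb, ← hb, hsum, hsum]
        simp only [map_add, AddMonoidHom.add_apply]
        have e := hZ2 (b (ρ w x) (ρ w y))
        calc _ = (b x (ρ w y) + b (ρ w x) y) + (b (ρ w x) (ρ w y) + b (ρ w x) (ρ w y)) := by abel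
          _ = _ := by rw [e, add_zero]
      have h3 := hZ.three hw hw1 a
      rw [h1, h1, hZ2, zero_add] at h3
      exact h3
    refine ⟨?_, ?_⟩
    · rw [← hb, hself v (ρ w u)]
    · rw [← hb, ← hself (ρ w v) u]
  rw [(key hq hq1 v u).1, (key hp hp1 v _).2, ← (key hq hq1 (ρ p (ρ p v)) u).1, ← (key hp hp1 v u).2]

section Ring

variable {R : Type*} [Ring R]

theorem three_inv_rel {P : R} (h : 1 + P + P * P = 0) : P * P = -1 - P := by
  rw [show (-1 : R) - P = -(1 + P) by noncomm_ring]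
  exact eq_neg_of_add_eq_zero_right h

/-- The elements `g` written in `1, P, Q, PQ` over the commutant, with the reversed word for `g⁻¹`. -/
def InSpan (P Q P' Q' g g' : R) : Prop :=
  ∃ a b c d : R, (Commute a P ∧ Commute b P ∧ Commute c P ∧ Commute d P) ∧
    (Commute a Q ∧ Commute b Q ∧ Commute c Q ∧ Commute d Q) ∧
    g = a + b * P + c * Q + d * (P * Q) ∧ g' = a + b * P' + c * Q' + d * (Q' * P')

variable {P Q : R} (hP : 1 + P + P * P = 0) (hQ : 1 + Q + Q * Q = 0)

theorem cross_commute (hP : 1 + P + P * P = 0) : Commute (P * Q + Q * P + P + Q) P := by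
  have e := three_inv_rel hP
  show (P * Q + Q * P + P + Q) * P = P * (P * Q + Q * P + P + Q)
  calc (P * Q + Q * P + P + Q) * P = P * Q * P + Q * (P * P) + P * P + Q * P := by noncomm_ring
    _ = P * Q * P + Q * (-1 - P) + P * P + Q * P := by rw [e]
    _ = (-1 - P) * Q + P * Q * P + P * P + P * Q := by noncomm_ring
    _ = P * P * Q + P * Q * P + P * P + P * Q := by rw [e]
    _ = P * (P * Q + Q * P + P + Q) := by noncomm_ring

theorem cross_commute' (hQ : 1 + Q + Q * Q = 0) : Commute (P * Q + Q * P + P + Q) Q := by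
  have := cross_commute (Q := P) hQ
  rwa [show Q * P + P * Q + Q + P = P * Q + Q * P + P + Q by abel] at this

include hP hQ

theorem InSpan.mul_left_gen {g g' : R} (h : InSpan P Q (-1 - P) (-1 - Q) g g') :
    InSpan P Q (-1 - P) (-1 - Q) (g * P) ((-1 - P) * g') ∧
      InSpan P Q (-1 - P) (-1 - Q) (g * Q) ((-1 - Q) * g') := by
  obtain ⟨a, b, c, d, ⟨aP, bP, cP, dP⟩, ⟨aQ, bQ, cQ, dQ⟩, rfl, rfl⟩ := h
  set t := P * Q + Q * P + P + Q with ht
  have tP : Commute t P := cross_commute hP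
  have tQ : Commute t Q := cross_commute' hQ
  have eP := three_inv_rel hP
  have eQ := three_inv_rel hQ
  have hQP : Q * P = t - P - Q - P * Q := by rw [ht]; abel
  have hPQP : P * Q * P = (t + 1) * P + 1 + Q := by
    rw [mul_assoc, hQP, mul_sub, mul_sub, mul_sub, tP.symm.eq, ← mul_assoc, eP]
    noncomm_ring
  have cm : ∀ {x : R}, Commute x P → Commute x (-1 - P) := fun hx =>
    ((Commute.neg_right (Commute.one_right _))).sub_right hx
  have cm' : ∀ {x : R}, Commute x Q → Commute x (-1 - Q) := fun hx =>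
    ((Commute.neg_right (Commute.one_right _))).sub_right hx
  set P' := -1 - P with hP'
  set Q' := -1 - Q with hQ'
  have eP' : P' * P' = -1 - P' := by
    calc P' * P' = 1 + P + P + P * P := by rw [hP']; noncomm_ring
      _ = P := by rw [eP, hP']; noncomm_ring
      _ = -1 - P' := by rw [hP']; noncomm_ring
  have eQ' : Q' * Q' = -1 - Q' := by
    calc Q' * Q' = 1 + Q + Q + Q * Q := by rw [hQ']; noncomm_ring
      _ = Q := by rw [eQ, hQ']; noncomm_ring
      _ = -1 - Q' := by rw [hQ']; noncomm_ring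
  have hP'Q' : P' * Q' = t - P' - Q' - Q' * P' := by rw [ht, hP', hQ']; noncomm_ring
  have tP' : Commute t P' := cm tP
  have hPQP' : P' * Q' * P' = (t + 1) * P' + 1 + Q' := by
    rw [hP'Q', sub_mul, sub_mul, sub_mul, mul_assoc Q' P' P', eP']
    noncomm_ring
  constructor
  · refine ⟨-b + c * t + d, a - b - c + d * (t + 1), -c + d, -c, ⟨?_, ?_, ?_, ?_⟩, ⟨?_, ?_, ?_, ?_⟩, ?_, ?_⟩
    · exact (bP.neg_left.add_left (cP.mul_left tP)).add_left dP
    · exact ((aP.sub_left bP).sub_left cP).add_left (dP.mul_left (tP.add_left (Commute.one_left P)))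
    · exact cP.neg_left.add_left dP
    · exact cP.neg_left
    · exact (bQ.neg_left.add_left (cQ.mul_left tQ)).add_left dQ
    · exact ((aQ.sub_left bQ).sub_left cQ).add_left (dQ.mul_left (tQ.add_left (Commute.one_left Q)))
    · exact cQ.neg_left.add_left dQ
    · exact cQ.neg_left
    · calc (a + b * P + c * Q + d * (P * Q)) * P
          = a * P + b * (P * P) + c * (Q * P) + d * (P * Q * P) := by noncomm_ring
        _ = _ := by rw [eP, hQP, hPQP, hP']; noncomm_ring
    · calc P' * (a + b * P' + c * Q' + d * (Q' * P'))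
          = a * P' + b * (P' * P') + c * (P' * Q') + d * (P' * Q' * P') := by
            rw [mul_add, mul_add, mul_add, ← (cm aP).eq, ← mul_assoc, ← (cm bP).eq, ← mul_assoc,
              ← (cm cP).eq, ← mul_assoc P' d, ← (cm dP).eq]
            noncomm_ring
        _ = _ := by rw [eP', hPQP', hP'Q']; noncomm_ring
  · refine ⟨-c, -d, a - c, b - d, ⟨cP.neg_left, dP.neg_left, aP.sub_left cP, bP.sub_left dP⟩,
      ⟨cQ.neg_left, dQ.neg_left, aQ.sub_left cQ, bQ.sub_left dQ⟩, ?_, ?_⟩
    · calc (a + b * P + c * Q + d * (P * Q)) * Q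
          = a * Q + b * (P * Q) + c * (Q * Q) + d * (P * (Q * Q)) := by noncomm_ring
        _ = _ := by rw [eQ, hQ']; noncomm_ring
    · calc Q' * (a + b * P' + c * Q' + d * (Q' * P'))
          = a * Q' + b * (Q' * P') + c * (Q' * Q') + d * (Q' * Q' * P') := by
            rw [mul_add, mul_add, mul_add, ← (cm' aQ).eq, ← mul_assoc, ← (cm' bQ).eq, ← mul_assoc,
              ← (cm' cQ).eq, ← mul_assoc Q' d, ← (cm' dQ).eq]
            noncomm_ring
        _ = _ := by rw [eQ']; noncomm_ring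

theorem InSpan.add_commute {g g' : R} (h : InSpan P Q (-1 - P) (-1 - Q) g g') :
    Commute (g + g') P := by
  obtain ⟨a, b, c, d, ⟨aP, bP, cP, dP⟩, -, rfl, rfl⟩ := h
  have tP : Commute (P * Q + Q * P + P + Q) P := cross_commute hP
  set t := P * Q + Q * P + P + Q with ht
  have e : a + b * P + c * Q + d * (P * Q) +
      (a + b * (-1 - P) + c * (-1 - Q) + d * ((-1 - Q) * (-1 - P))) = a + a - b - c + d * (t + 1) := by
    rw [ht]; noncomm_ring
  rw [e]
  exact (((aP.add_left aP).sub_left bP).sub_left cP).add_left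
    (dP.mul_left (tP.add_left (Commute.one_left P)))

end Ring

theorem trace_commute [Finite X] {A : Type*} [AddCommGroup A] {ρ : X →* AddMonoid.End A}
    (h : IsFpf ρ) {p q : X} (hp : p ^ 3 = 1) (hp1 : p ≠ 1) (hq : q ^ 3 = 1) (hq1 : q ≠ 1) {g : X}
    (hg : g ∈ closure ({p, q} : Set X)) : Commute (ρ g + ρ g⁻¹) (ρ p) := by
  have rel : ∀ {w : X}, w ^ 3 = 1 → w ≠ 1 → 1 + ρ w + ρ w * ρ w = 0 := fun hw hw1 =>
    AddMonoidHom.ext fun a => h.three hw hw1 a
  have hi : ∀ {w : X}, w ^ 3 = 1 → w ≠ 1 → ρ w⁻¹ = -1 - ρ w := fun {w} hw hw1 => by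
    rw [← three_inv_rel (rel hw hw1), ← map_mul, inv_eq_of_mul_eq_one_right (b := w * w)]
    rw [← hw, pow_succ', pow_two]
  refine InSpan.add_commute (Q := ρ q) (rel hp hp1) (rel hq hq1) ?_
  have hmem : g ∈ Submonoid.closure ({p, q} : Set X) := by
    rwa [← mem_toSubmonoid, closure_toSubmonoid_of_finite] at hg
  induction hmem using Submonoid.closure_induction_right with
  | one => exact ⟨1, 0, 0, 0, ⟨Commute.one_left _, Commute.zero_left _, Commute.zero_left _,
      Commute.zero_left _⟩, ⟨Commute.one_left _, Commute.zero_left _, Commute.zero_left _,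
      Commute.zero_left _⟩, by simp, by simp⟩
  | mul_right x hx y hy ih =>
    have ih' := InSpan.mul_left_gen (rel hp hp1) (rel hq hq1)
      (ih (by rw [← mem_toSubmonoid, closure_toSubmonoid_of_finite]; exact hx))
    rcases hy with rfl | hy
    · rw [map_mul, mul_inv_rev, map_mul, hi hp hp1]; exact ih'.1
    · obtain rfl : y = q := hy
      rw [map_mul, mul_inv_rev, map_mul, hi hq hq1]; exact ih'.2

/-- An involution of `⟨p, q⟩` commutes with `p` on the multiples of two. -/
theorem commute_on_double [Finite X] {A : Type*} [AddCommGroup A] {ρ : X →* AddMonoid.End A}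
    (h : IsFpf ρ) {p q t : X} (hp : p ^ 3 = 1) (hp1 : p ≠ 1) (hq : q ^ 3 = 1) (hq1 : q ≠ 1)
    (ht : t ∈ closure ({p, q} : Set X)) (ht2 : orderOf t = 2) (a : A) :
    ρ t (ρ p (2 • a)) = ρ p (ρ t (2 • a)) := by
  have h1 := trace_commute h hp hp1 hq hq1 ht
  rw [inv_of_sq (sq_of_orderOf ht2)] at h1
  have h2 := DFunLike.congr_fun h1.eq a
  show ρ t (ρ p (2 • a)) = ρ p (ρ t (2 • a))
  rw [two_nsmul, map_add, map_add, map_add, map_add]
  calc ρ t (ρ p a) + ρ t (ρ p a) = ρ p (ρ t a + ρ t a) := h2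
    _ = _ := map_add _ _ _

theorem centralizer_zpowers' (x : X) :
    centralizer ((zpowers x : Subgroup X) : Set X) = centralizer ({x} : Set X) := by
  rw [zpowers_eq_closure, centralizer_closure]

theorem conj_inv_of_inverts {a x : X} (ha : orderOf a = 2) (h : a * x * a⁻¹ = x⁻¹) :
    x = a * x⁻¹ * a⁻¹ := by
  rw [← h, inv_of_sq (sq_of_orderOf ha), mul_assoc, mul_assoc, mul_assoc, sq_of_orderOf ha, mul_one,
    ← mul_assoc, sq_of_orderOf ha, one_mul]

section Pair

variable [Finite X] [IsSimpleGroup X] (hC : IsCIT X) (hX : ¬ IsMulCommutative X)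
include hC hX

omit hC in
theorem exists_noncommuting {p : X} (hp : p ≠ 1) : ∃ g : X, p * (g * p * g⁻¹) ≠ g * p * g⁻¹ * p := by
  by_contra h
  push Not at h
  have hc : ∀ y ∈ Group.conjugatesOfSet ({p} : Set X), y ∈ centralizer ({p} : Set X) := by
    intro y hy
    obtain ⟨a, ha, hy⟩ := Group.mem_conjugatesOfSet_iff.mp hy
    rw [Set.mem_singleton_iff.mp ha] at hy
    obtain ⟨g, rfl⟩ := isConj_iff.mp hy
    exact mem_centralizer_singleton_iff.mpr (h g).symm
  have htop : normalClosure ({p} : Set X) = ⊤ :=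
    normalClosure_normal.eq_bot_or_eq_top.resolve_left fun e =>
      hp (mem_bot.mp (e ▸ subset_normalClosure (Set.mem_singleton p)))
  have hle : (⊤ : Subgroup X) ≤ centralizer ({p} : Set X) := htop ▸ (closure_le _).mpr hc
  have hz : p ∈ center X := mem_center_iff.mpr fun g =>
    (mem_centralizer_singleton_iff.mp (hle (mem_top g)))
  rcases (inferInstance : (center X).Normal).eq_bot_or_eq_top with e | e
  · exact hp (mem_bot.mp (e ▸ hz))
  · exact hX ⟨⟨fun a b => mem_center_iff.mp (e ▸ mem_top b : b ∈ center X) a⟩⟩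

omit [IsSimpleGroup X] hX in
theorem commute_of_inverted {p x y a : X} (ha : orderOf a = 2) (hx : Odd (orderOf x)) (hx1 : x ≠ 1)
    (hax : a * x * a⁻¹ = x⁻¹) (hp : p * x = x * p) (hy : y * x = x * y) : p * y = y * p := by
  have hCo : Odd (Nat.card (centralizer ((zpowers x : Subgroup X) : Set X))) :=
    centralizer_odd hC (zpowers_ne_bot.mpr hx1) (by rwa [Nat.card_zpowers])
  rw [centralizer_zpowers'] at hCo
  have hinv := inverts hC hCo ha fun d hd => by
    rw [mem_centralizer_singleton_iff] at hd ⊢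
    have e : x = a * x⁻¹ * a⁻¹ := conj_inv_of_inverts ha hax
    calc a * d * a⁻¹ * x = a * d * a⁻¹ * (a * x⁻¹ * a⁻¹) := by rw [← e]
      _ = a * (d * x⁻¹) * a⁻¹ := by group
      _ = a * (x⁻¹ * d) * a⁻¹ := by rw [(Commute.inv_right (show Commute d x from hd)).eq]
      _ = (a * x⁻¹ * a⁻¹) * (a * d * a⁻¹) := by group
      _ = x * (a * d * a⁻¹) := by rw [← e]
  have hpC : p ∈ centralizer ({x} : Set X) := mem_centralizer_singleton_iff.mpr hp
  have hyC : y ∈ centralizer ({x} : Set X) := mem_centralizer_singleton_iff.mpr hy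
  have h1 := hinv _ (mul_mem hpC hyC)
  have h2 : (p * y)⁻¹ = p⁻¹ * y⁻¹ := by
    rw [← h1, show a * (p * y) * a⁻¹ = (a * p * a⁻¹) * (a * y * a⁻¹) by group, hinv _ hpC, hinv _ hyC]
  rw [mul_inv_rev] at h2
  have h3 := congrArg (fun z => p * y * z * (y * p)) h2
  simp [mul_assoc] at h3
  exact h3.symm

/-- Two non-commuting elements of order three generate a subgroup of even order. -/
theorem exists_pair {V : Type*} [AddCommGroup V] [Finite V] [Nontrivial V]
    {ρ : X →* AddMonoid.End V} (h : IsFpf ρ) (h2 : Exp2 V) {p a : X} (hp : orderOf p = 3)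
    (ha : orderOf a = 2) (hap : a * p * a⁻¹ = p⁻¹) :
    ∃ q t : X, orderOf q = 3 ∧ t ∈ closure ({p, q} : Set X) ∧ orderOf t = 2 ∧ p * q ≠ q * p := by
  haveI : Fact (Nat.Prime 2) := ⟨Nat.prime_two⟩
  have hp1 : p ≠ 1 := fun e => by rw [e, orderOf_one] at hp; omega
  obtain ⟨g, hg⟩ := exists_noncommuting hX hp1
  set q := g * p * g⁻¹ with hqdef
  have hq : orderOf q = 3 := hp ▸ orderOf_injective (MulAut.conj g).toMonoidHom (MulAut.conj g).injective p
  set H := closure ({p, q} : Set X) with hH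
  have hpH : p ∈ H := subset_closure (Set.mem_insert _ _)
  have hqH : q ∈ H := subset_closure (Set.mem_insert_of_mem _ rfl)
  by_cases h2H : 2 ∣ Nat.card H
  · obtain ⟨⟨t, ht⟩, hto⟩ := exists_prime_orderOf_dvd_card' 2 h2H
    rw [Subgroup.orderOf_mk] at hto
    exact ⟨q, t, hq, ht, hto, hg⟩
  exfalso
  have hodd : Odd (Nat.card H) := Nat.odd_iff.2 (Nat.two_dvd_ne_zero.1 h2H)
  haveI : Group.IsSolvable H := Cfsg.Agent.S0205.result hodd
  haveI : Nontrivial H := ⟨⟨⟨p, hpH⟩, 1, fun e => hp1 (congrArg Subtype.val e)⟩⟩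
  obtain ⟨M, hM, hM1, -, hc, r, hr, hMr, hMp⟩ := MinNormal.exists_elementary_abelian (G := H)
  haveI := hM
  haveI := Fact.mk hr
  obtain ⟨⟨x, hxH⟩, hxM, hx1⟩ := M.bot_or_exists_ne_one.resolve_left hM1
  have hx1' : x ≠ 1 := fun e => hx1 (Subtype.ext e)
  have hxo : orderOf x = r := (orderOf_eq_prime (congrArg Subtype.val (hMr _ hxM)) hx1')
  have hr2 : r ≠ 2 := fun e => h2H (e ▸ hxo ▸ Subgroup.orderOf_dvd_natCard H hxH)
  haveI : Nontrivial (Multiplicative V) := inferInstanceAs (Nontrivial V)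
  have hA : Act (mulForm ρ) := h.act hC h2 (w := p) (by rw [hp]; decide) hp1
  have hcent : ∀ w ∈ ({p, q} : Set X), orderOf w = 3 → w * x = x * w := by
    intro w hw hwo
    have hwH : w ∈ H := subset_closure hw
    have hconj : w * x * w⁻¹ ∈ zpowers x := by
      by_contra hne
      set y := w * x * w⁻¹ with hy
      have hyM : (⟨w, hwH⟩ * ⟨x, hxH⟩ * ⟨w, hwH⟩⁻¹ : H) ∈ M := hM.conj_mem _ hxM _
      have hxy : x * y = y * x := by
        exact congrArg (fun z : H => (z : X)) (congrArg Subtype.val (hc.is_comm.comm ⟨_, hxM⟩ ⟨_, hyM⟩))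
      exact hA.no_pp hr hr2 hxy hxo ((orderOf_injective (MulAut.conj w).toMonoidHom (MulAut.conj w).injective x).trans hxo) hne
    by_contra hne
    exact hA.no_frobenius hr hr2 Nat.prime_three (by norm_num) hxo hwo hconj (Ne.symm hne)
  have hpx := hcent p (Set.mem_insert _ _) hp
  have hqx := hcent q (Set.mem_insert_of_mem _ rfl) hq
  have hax : a * x * a⁻¹ = x⁻¹ := by
    have hCo : Odd (Nat.card (centralizer ((zpowers p : Subgroup X) : Set X))) :=
      centralizer_odd hC (zpowers_ne_bot.mpr hp1) (by rw [Nat.card_zpowers, hp]; decide)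
    rw [centralizer_zpowers'] at hCo
    refine inverts hC hCo ha (fun d hd => ?_) x (mem_centralizer_singleton_iff.mpr hpx.symm)
    rw [mem_centralizer_singleton_iff] at hd ⊢
    have e : p = a * p⁻¹ * a⁻¹ := conj_inv_of_inverts ha hap
    calc a * d * a⁻¹ * p = a * d * a⁻¹ * (a * p⁻¹ * a⁻¹) := by rw [← e]
      _ = a * (d * p⁻¹) * a⁻¹ := by group
      _ = a * (p⁻¹ * d) * a⁻¹ := by rw [(Commute.inv_right (show Commute d p from hd)).eq]
      _ = (a * p⁻¹ * a⁻¹) * (a * d * a⁻¹) := by group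
      _ = p * (a * d * a⁻¹) := by rw [← e]
  exact hg (commute_of_inverted hC ha (hxo ▸ hr.odd_of_ne_two hr2) hx1' hax hpx hqx)

end Pair

end Cfsg.Agent.CIT38

namespace Cfsg.Agent.CIT38

open Subgroup CIT

universe u

variable {X : Type*} [Group X] [Finite X] [IsSimpleGroup X] (hC : IsCIT X)
  (hX : ¬ IsMulCommutative X) {p a : X} (hp : orderOf p = 3) (ha : orderOf a = 2)
  (hap : a * p * a⁻¹ = p⁻¹)
include hC hX hp ha hap

omit hC ha hap in
theorem noPair_of_three : NoPair.{u} X := by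
  intro V Z _ _ _ _ ρ σ b hρ hσ hV2 hZ2 hb v w
  have hp1 : p ≠ 1 := fun e => by rw [e, orderOf_one] at hp; omega
  obtain ⟨g, hg⟩ := exists_noncommuting hX hp1
  set q := g * p * g⁻¹ with hqdef
  have hq : orderOf q = 3 := hp ▸ orderOf_injective (MulAut.conj g).toMonoidHom (MulAut.conj g).injective p
  have hq1 : q ≠ 1 := fun e => by rw [e, orderOf_one] at hq; omega
  set U : AddSubgroup Z := AddSubgroup.closure {z | ∃ v w, b v w = z}
  by_contra hne
  have hU : Invar σ U := fun x z hz => by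
    have : U ≤ U.comap (σ x) := (AddSubgroup.closure_le _).2 fun _ ⟨v, w, e⟩ =>
      AddSubgroup.subset_closure ⟨ρ x v, ρ x w, (hb x v w).trans (congrArg (σ x) e)⟩
    exact this hz
  haveI : Nontrivial U := ⟨⟨⟨b v w, AddSubgroup.subset_closure ⟨v, w, rfl⟩⟩, 0,
    fun e => hne (congrArg Subtype.val e)⟩⟩
  refine hg ((hσ.res hU).injective (w := p) (by rw [hp]; decide) hp1 (AddMonoidHom.ext fun z => Subtype.ext ?_))
  show σ (p * q) (z : Z) = σ (q * p) (z : Z)
  have hle : U ≤ AddMonoidHom.eqLocus (σ (p * q)) (σ (q * p)) :=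
    (AddSubgroup.closure_le _).2 fun _ ⟨v, w, e⟩ => by
      subst e
      show σ (p * q) _ = σ (q * p) _
      rw [ρ_mul σ p q, ρ_mul σ q p]
      exact commute_on_image hρ hσ hV2 hZ2 hb (hp ▸ pow_orderOf_eq_one p) hp1
        (hq ▸ pow_orderOf_eq_one q) hq1 v w
  exact hle z.2

theorem noFour_of_three : NoFour.{u} X := by
  intro A _ _ ρ h h4 x
  set U : AddSubgroup A := (nsmulAddMonoidHom 2 : A →+ A).range with hUdef
  have hU : Invar ρ U := by
    rintro g _ ⟨y, rfl⟩
    exact ⟨ρ g y, (map_nsmul (ρ g) 2 y).symm⟩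
  have hU2 : Exp2 U := by
    rintro ⟨_, y, rfl⟩
    refine Subtype.ext ?_
    show 2 • y + 2 • y = 0
    rw [← add_nsmul]; exact h4 y
  by_contra hne
  rw [← two_nsmul] at hne
  haveI : Nontrivial U := ⟨⟨⟨2 • x, x, rfl⟩, 0, fun e => hne (congrArg Subtype.val e)⟩⟩
  have hp1 : p ≠ 1 := fun e => by rw [e, orderOf_one] at hp; omega
  obtain ⟨q, t, hq, ht, ht2, -⟩ := exists_pair hC hX (h.res hU) hU2 hp ha hap
  have hq1 : q ≠ 1 := fun e => by rw [e, orderOf_one] at hq; omega
  refine hp1 (hC.eq_one_of_commute (two_of_orderOf ht2) (CIT.ne_one_of_orderOf ht2)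
    (by rw [hp]; decide) ?_)
  refine ((h.res hU).injective (w := p) (by rw [hp]; decide) hp1 (AddMonoidHom.ext fun z => Subtype.ext ?_)).symm
  obtain ⟨_, y, rfl⟩ := z
  show ρ (t * p) (2 • y) = ρ (p * t) (2 • y)
  rw [ρ_mul, ρ_mul]
  exact commute_on_double h (hp ▸ pow_orderOf_eq_one p) hp1 (hq ▸ pow_orderOf_eq_one q) hq1 ht ht2 y

end Cfsg.Agent.CIT38
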